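import Mathlib.AlgebraicGeometry.Morphisms.FormallyUnramified
import Mathlib.AlgebraicGeometry.Morphisms.FiniteType
import Mathlib.AlgebraicGeometry.Morphisms.Immersion
import Mathlib.AlgebraicGeometry.Fiber
import Groth.Agent.EtStruct.Scheme

/-!
# Unramified morphisms can be recognised on fibres
-/

set_option autoImplicit false
set_option backward.isDefEq.respectTransparency.types false

universe u

open CategoryTheory CategoryTheory.Limits AlgebraicGeometry IsLocalRing

namespace Groth.Agent.UnramFib

theorem formallyUnramified_of_mod {R S : Type u} [CommRing R] [CommRing S] [IsLocalRing R]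
    [IsLocalRing S] [Algebra R S] [IsLocalHom (algebraMap R S)] [Algebra.EssFiniteType R S]
    [Algebra (ResidueField R) (S ⧸ (maximalIdeal R).map (algebraMap R S))]
    [IsScalarTower R (ResidueField R) (S ⧸ (maximalIdeal R).map (algebraMap R S))]
    [Algebra.FormallyUnramified (ResidueField R) (S ⧸ (maximalIdeal R).map (algebraMap R S))] :
    Algebra.FormallyUnramified R S := by
  let I := (maximalIdeal R).map (algebraMap R S)
  let S' := S ⧸ I
  have hI : I ≤ maximalIdeal S :=
    ((local_hom_TFAE (algebraMap R S)).out 0 2 rfl rfl).mp inferInstance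
  have : Nontrivial S' := Ideal.Quotient.nontrivial_iff.mpr fun h =>
    (maximalIdeal.isMaximal S).ne_top (top_le_iff.mp (h ▸ hI))
  have : IsLocalRing S' := .of_surjective' (Ideal.Quotient.mk I) Ideal.Quotient.mk_surjective
  have : IsLocalHom (algebraMap (ResidueField R) S') := ⟨fun a ha => by
    refine isUnit_iff_ne_zero.mpr fun h => ?_
    rw [h, map_zero] at ha
    exact not_isUnit_zero ha⟩
  have : Algebra.EssFiniteType R S' := .comp R S S'
  have : Algebra.EssFiniteType (ResidueField R) S' := .of_comp R _ _
  have h0 : maximalIdeal S' = ⊥ := by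
    rw [← Algebra.FormallyUnramified.map_maximalIdeal (R := ResidueField R) (S := S'),
      maximalIdeal_eq_bot, Ideal.map_bot]
  have hmax : maximalIdeal S ≤ I := fun s hs => by
    rw [← Ideal.Quotient.eq_zero_iff_mem]
    have : Ideal.Quotient.mk I s ∈ maximalIdeal S' :=
      le_maximalIdeal (fun h => (maximalIdeal.isMaximal S).ne_top (by
        have h2 := congrArg (Ideal.comap (Ideal.Quotient.mk I)) h
        rwa [Ideal.comap_map_of_surjective _ Ideal.Quotient.mk_surjective, Ideal.comap_top,
          ← RingHom.ker_eq_comap_bot, Ideal.mk_ker, sup_eq_left.mpr hI] at h2)) (Ideal.mem_map_of_mem (Ideal.Quotient.mk I) hs)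
    rwa [h0] at this
  refine Algebra.FormallyUnramified.iff_map_maximalIdeal_eq.mpr ⟨?_, le_antisymm hI hmax⟩
  have hu : Algebra.FormallyUnramified R S' :=
    have : Algebra.FormallyUnramified R (ResidueField R) := .quotient _
    Algebra.FormallyUnramified.comp R (ResidueField R) S'
  have hle : I ≤ RingHom.ker (IsLocalRing.residue S) := by
    rwa [IsLocalRing.ker_residue]
  let π : S' →ₐ[R] ResidueField S := Ideal.Quotient.liftₐ I (IsScalarTower.toAlgHom R S (ResidueField S))
    fun a ha => hle ha
  have : Algebra.FormallyUnramified R (ResidueField S) :=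
    Algebra.FormallyUnramified.of_surjective π (Ideal.Quotient.lift_surjective_of_surjective I _
      IsLocalRing.residue_surjective)
  have : Algebra.FormallyUnramified (ResidueField R) (ResidueField S) :=
    Algebra.FormallyUnramified.of_restrictScalars R _ _
  have : Algebra.EssFiniteType R (ResidueField S) := .comp R S _
  have : Algebra.EssFiniteType (ResidueField R) (ResidueField S) := .of_comp R _ _
  exact (Algebra.FormallyUnramified.iff_isSeparable (ResidueField R) (ResidueField S)).mp inferInstance

variable {X Y : Scheme.{u}} (f : X ⟶ Y)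

/-- The stalk map is unramified at a point near which the fibre is unramified. -/
theorem stalkMap_formallyUnramified_of_fiber_nhd [LocallyOfFiniteType f] (x : X)
    (W : (f.fiber (f x)).Opens) (hW : f.asFiber x ∈ W)
    (h : FormallyUnramified (W.ι ≫ f.fiberToSpecResidueField (f x))) :
    (f.stalkMap x).hom.FormallyUnramified := by
  algebraize [(f.stalkMap x).hom]
  let R := Y.presheaf.stalk (f x)
  let S := X.presheaf.stalk x
  have : IsLocalHom (algebraMap R S) := inferInstanceAs <| IsLocalHom (f.stalkMap x).hom
  have : Algebra.EssFiniteType R S := by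
    rw [← RingHom.essFiniteType_algebraMap, RingHom.algebraMap_toAlgebra]
    exact LocallyOfFiniteType.stalkMap f x
  let I : Ideal S := (maximalIdeal R).map (algebraMap R S)
  let φ : ResidueField R →+* S ⧸ I := Ideal.quotientMap I (algebraMap R S) Ideal.le_comap_map
  letI : Algebra (ResidueField R) (S ⧸ I) := φ.toAlgebra
  have : IsScalarTower R (ResidueField R) (S ⧸ I) := IsScalarTower.of_algebraMap_eq fun a => rfl
  let q : S ⟶ CommRingCat.of (S ⧸ I) := CommRingCat.ofHom (Ideal.Quotient.mk I)
  let φ' : Y.residueField (f x) ⟶ CommRingCat.of (S ⧸ I) := CommRingCat.ofHom φ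
  have hsq : Y.residue (f x) ≫ φ' = f.stalkMap x ≫ q := rfl
  have hcomp : (Spec.map q ≫ X.fromSpecStalk x) ≫ f =
      Spec.map φ' ≫ Y.fromSpecResidueField (f x) := by
    rw [Category.assoc, ← Scheme.SpecMap_stalkMap_fromSpecStalk, ← Spec.map_comp_assoc, ← hsq,
      Spec.map_comp_assoc]
    rfl
  have : IsClosedImmersion (Spec.map q) :=
    IsClosedImmersion.spec_of_surjective q Ideal.Quotient.mk_surjective
  let j : Spec (CommRingCat.of (S ⧸ I)) ⟶ f.fiber (f x) := pullback.lift _ _ hcomp
  have hj : j ≫ f.fiberι (f x) = Spec.map q ≫ X.fromSpecStalk x := pullback.lift_fst _ _ _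
  have hmono : Mono (j ≫ f.fiberι (f x)) := by rw [hj]; infer_instance
  have : Mono j := mono_of_mono j (f.fiberι (f x))
  have hI : I ≤ maximalIdeal S :=
    ((local_hom_TFAE (algebraMap R S)).out 0 2 rfl rfl).mp inferInstance
  have : Nontrivial (S ⧸ I) := Ideal.Quotient.nontrivial_iff.mpr fun hh =>
    (maximalIdeal.isMaximal S).ne_top (top_le_iff.mp (hh ▸ hI))
  have : IsLocalRing (S ⧸ I) := .of_surjective' (Ideal.Quotient.mk I) Ideal.Quotient.mk_surjective
  have hlocq : IsLocalHom q.hom := ⟨fun a ha => by
    by_contra hna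
    obtain ⟨b, hb⟩ := isUnit_iff_exists_inv.mp ha
    obtain ⟨b, rfl⟩ := Ideal.Quotient.mk_surjective b
    have h1 : a * b - 1 ∈ I := Ideal.Quotient.eq.mp ((map_mul _ a b).trans (hb.trans (map_one _).symm))
    have h2 : a * b ∈ maximalIdeal S := Ideal.mul_mem_right b _ hna
    exact (maximalIdeal.isMaximal S).ne_top ((Ideal.eq_top_iff_one _).mpr (by
      simpa using sub_mem h2 (hI h1)))⟩
  have hrange : Set.range j ⊆ Set.range W.ι := by
    rw [Scheme.Opens.range_ι]
    rintro _ ⟨w, rfl⟩
    have hc : j (closedPoint (S ⧸ I)) = f.asFiber x := by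
      apply (f.fiberι (f x)).isEmbedding.injective
      rw [f.fiberι_asFiber, ← Scheme.Hom.comp_apply, hj, Scheme.Hom.comp_apply]
      have hqc : Spec.map q (closedPoint (S ⧸ I)) = closedPoint S :=
        IsLocalRing.comap_closedPoint q.hom
      rw [hqc, Scheme.fromSpecStalk_closedPoint]
    exact ((IsLocalRing.specializes_closedPoint w).map j.continuous).mem_open W.2 (hc ▸ hW)
  let j' := IsOpenImmersion.lift W.ι j hrange
  have hj' : j' ≫ W.ι = j := IsOpenImmersion.lift_fac _ _ _
  have : Mono (j' ≫ W.ι) := hj' ▸ ‹Mono j›
  have : Mono j' := mono_of_mono j' W.ι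
  have : FormallyUnramified j' := inferInstance
  have h2 : FormallyUnramified (Spec.map φ') := by
    have hj2 : j ≫ f.fiberToSpecResidueField (f x) = Spec.map φ' := pullback.lift_snd _ _ _
    rw [← hj2, ← hj', Category.assoc]
    exact MorphismProperty.comp_mem _ _ _ this h
  have hφ : φ.FormallyUnramified := (HasRingHomProperty.Spec_iff (P := @FormallyUnramified)).mp h2
  have : Algebra.FormallyUnramified (ResidueField R) (S ⧸ I) := hφ
  exact formallyUnramified_of_mod (R := R) (S := S)

/-- The stalk map is unramified at a point whose fibre is unramified. -/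
theorem stalkMap_formallyUnramified_of_fiber [LocallyOfFiniteType f] (x : X)
    (h : FormallyUnramified (f.fiberToSpecResidueField (f x))) :
    (f.stalkMap x).hom.FormallyUnramified :=
  stalkMap_formallyUnramified_of_fiber_nhd f x ⊤ trivial (MorphismProperty.comp_mem _ _ _ inferInstance h)

/-- The stalk map is unramified at the image of a point of a fibre at which the fibre is
unramified. -/
theorem stalkMap_formallyUnramified_of_fiber_point [LocallyOfFiniteType f] (y : Y) (z : f.fiber y)
    (h : ((f.fiberToSpecResidueField y).stalkMap z).hom.FormallyUnramified) :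
    (f.stalkMap (f.fiberι y z)).hom.FormallyUnramified := by
  have hy : f (f.fiberι y z) = y := by
    have h1 : f.fiberι y z ∈ Set.range (f.fiberι y) := ⟨z, rfl⟩
    rwa [f.range_fiberι] at h1
  generalize hx : f.fiberι y z = x at hy ⊢
  subst hy
  have : LocallyOfFiniteType (f.fiberToSpecResidueField (f x)) :=
    MorphismProperty.pullback_snd _ _ inferInstance
  obtain ⟨W, hzW, hW⟩ := (EtStruct.formallyUnramified_nhd_iff _ _).mpr h
  have hz : f.asFiber x = z := (f.fiberι (f x)).isEmbedding.injective (by
    rw [f.fiberι_asFiber]; exact hx.symm)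
  exact stalkMap_formallyUnramified_of_fiber_nhd f x W (hz ▸ hzW) hW

/-- A morphism locally of finite type with unramified fibres is unramified. -/
theorem formallyUnramified_of_fibers [LocallyOfFiniteType f]
    (h : ∀ y : Y, FormallyUnramified (f.fiberToSpecResidueField y)) : FormallyUnramified f := by
  refine IsZariskiLocalAtSource.of_iSup_eq_top (P := @FormallyUnramified)
    (fun x : X => Classical.choose ((EtStruct.formallyUnramified_nhd_iff f x).mpr
      (stalkMap_formallyUnramified_of_fiber f x (h (f x))))) ?_ fun x => ?_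
  · refine top_le_iff.mp fun x _ => TopologicalSpace.Opens.mem_iSup.mpr ⟨x, ?_⟩
    exact (Classical.choose_spec ((EtStruct.formallyUnramified_nhd_iff f x).mpr
      (stalkMap_formallyUnramified_of_fiber f x (h (f x))))).1
  · exact (Classical.choose_spec ((EtStruct.formallyUnramified_nhd_iff f x).mpr
      (stalkMap_formallyUnramified_of_fiber f x (h (f x))))).2

end Groth.Agent.UnramFib
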