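import Mathlib.AlgebraicGeometry.Artinian
import Mathlib.AlgebraicGeometry.Morphisms.QuasiFinite
import Mathlib.AlgebraicGeometry.Limits
import Mathlib.RingTheory.Unramified.Field
import Mathlib.RingTheory.Jacobson.Ring
import Groth.Agent.EtStruct.Instances
import Groth.Agent.UnramFib.Basic

/-!
# Unramified schemes over a field
-/

set_option autoImplicit false
set_option backward.isDefEq.respectTransparency.types false

universe u

open CategoryTheory CategoryTheory.Limits AlgebraicGeometry IsLocalRing

namespace Groth.Agent.UnramFib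

theorem isField_stalk_of_discrete (X : Scheme.{u}) [DiscreteTopology X] [IsReduced X] (x : X) :
    IsField (X.presheaf.stalk x) := by
  have hsub : ∀ z w : Spec (X.presheaf.stalk x), z = w := fun z w => by
    apply (X.fromSpecStalk x).isEmbedding.injective
    have hz : X.fromSpecStalk x z ⤳ x := X.range_fromSpecStalk.le ⟨z, rfl⟩
    have hw : X.fromSpecStalk x w ⤳ x := X.range_fromSpecStalk.le ⟨w, rfl⟩
    rw [hz.eq, hw.eq]
  rw [isField_iff_maximalIdeal_eq, eq_bot_iff]
  intro a ha
  refine (Submodule.mem_bot _).mpr (IsNilpotent.eq_zero (mem_nilradical.mp ?_))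
  rw [nilradical_eq_sInf, Submodule.mem_sInf]
  intro (p : Ideal (X.presheaf.stalk x)) hp
  have h : (⟨p, hp⟩ : PrimeSpectrum (X.presheaf.stalk x)) = closedPoint _ := hsub _ _
  rw [show p = maximalIdeal (X.presheaf.stalk x) from congrArg PrimeSpectrum.asIdeal h]
  exact ha

instance isOpenImmersion_fromSpecResidueField (X : Scheme.{u}) [DiscreteTopology X] [IsReduced X]
    (x : X) : IsOpenImmersion (X.fromSpecResidueField x) := by
  let F := X.fromSpecResidueField x
  have hopen : Topology.IsOpenEmbedding F := ⟨F.isEmbedding, isOpen_discrete _⟩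
  have (z : Spec (X.residueField x)) : IsIso (F.stalkMap z) := by
    refine (ConcreteCategory.isIso_iff_bijective _).mpr ⟨?_, F.stalkMap_surjective z⟩
    let : Field (X.presheaf.stalk (F z)) := (isField_stalk_of_discrete X (F z)).toField
    have : Nontrivial ((Spec (X.residueField x)).presheaf.stalk z) := inferInstance
    exact (F.stalkMap z).hom.injective
  exact IsOpenImmersion.of_isIso_stalkMap F hopen

theorem isIso_sigmaDesc_fromSpecResidueField (X : Scheme.{u}) [DiscreteTopology X] [IsReduced X] :
    IsIso (Sigma.desc fun x : X => X.fromSpecResidueField x) := by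
  obtain ⟨h⟩ := nonempty_isColimit_cofanMk_of (fun x : X => X.fromSpecResidueField x)
    (top_le_iff.mp fun x _ => TopologicalSpace.Opens.mem_iSup.mpr
      ⟨x, closedPoint _, X.fromSpecResidueField_apply x _⟩) fun x y hxy => by
      simp only [Function.onFun, disjoint_iff_inf_le]
      rintro w ⟨⟨a, ha⟩, ⟨b, hb⟩⟩
      rw [X.fromSpecResidueField_apply] at ha hb
      exact absurd (ha.trans hb.symm) hxy
  exact (Cofan.nonempty_isColimit_iff_isIso_sigmaDesc _).mp ⟨h⟩

variable {k : Type u} [Field k] {X : Scheme.{u}} (f : X ⟶ Spec (CommRingCat.of k))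

theorem isReduced_of_unramified [FormallyUnramified f] [LocallyOfFiniteType f] : IsReduced X := by
  let 𝒰 := X.affineOpenCover
  have (i : 𝒰.openCover.I₀) : IsReduced (𝒰.openCover.X i) := by
    have hi : IsOpenImmersion (𝒰.f i) := 𝒰.map_prop i
    obtain ⟨φ, hφ⟩ := Spec.map_surjective (𝒰.f i ≫ f)
    have h1 : FormallyUnramified (Spec.map φ) :=
      hφ ▸ MorphismProperty.comp_mem _ _ _ inferInstance ‹_›
    have h2 : LocallyOfFiniteType (Spec.map φ) := hφ ▸ inferInstance
    rw [HasRingHomProperty.Spec_iff (P := @FormallyUnramified)] at h1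
    rw [HasRingHomProperty.Spec_iff (P := @LocallyOfFiniteType)] at h2
    algebraize [φ.hom]
    have : _root_.IsReduced (𝒰.X i) := Algebra.FormallyUnramified.isReduced_of_field k (𝒰.X i)
    exact inferInstanceAs (IsReduced (Spec (𝒰.X i)))
  exact .of_openCover _ 𝒰.openCover

theorem discreteTopology_of_unramified [FormallyUnramified f] [LocallyOfFiniteType f] :
    DiscreteTopology X := by
  have := EtStruct.locallyQuasiFinite_of_formallyUnramified f
  have : IsLocallyArtinian (Spec (CommRingCat.of k)) :=
    Scheme.isLocallyArtinianScheme_Spec.mpr inferInstance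
  have : IsLocallyArtinian X := IsLocallyArtinian.of_locallyQuasiFinite f
  infer_instance

/-- The residue fields of an unramified scheme over a field are finite separable. -/
theorem residue_finite_separable [FormallyUnramified f] [LocallyOfFiniteType f] [DiscreteTopology X]
    [IsReduced X] (x : X) (ψ : CommRingCat.of k ⟶ X.residueField x)
    (hψ : Spec.map ψ = X.fromSpecResidueField x ≫ f) :
    letI := ψ.hom.toAlgebra
    FiniteDimensional k (X.residueField x) ∧ Algebra.IsSeparable k (X.residueField x) := by
  have h1 : FormallyUnramified (Spec.map ψ) := hψ ▸ MorphismProperty.comp_mem _ _ _ inferInstance ‹_›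
  have h2 : LocallyOfFiniteType (Spec.map ψ) := hψ ▸ inferInstance
  rw [HasRingHomProperty.Spec_iff (P := @FormallyUnramified)] at h1
  rw [HasRingHomProperty.Spec_iff (P := @LocallyOfFiniteType)] at h2
  algebraize [ψ.hom]
  exact ⟨finite_of_finite_type_of_isJacobsonRing k (X.residueField x),
    (Algebra.FormallyUnramified.iff_isSeparable k (X.residueField x)).mp ‹_›⟩

/-- Disjoint unions of spectra of separable extensions are unramified. -/
theorem formallyUnramified_sigmaDesc {ι : Type u} (K : ι → Type u) [∀ i, Field (K i)]
    [∀ i, Algebra k (K i)] [∀ i, Algebra.IsSeparable k (K i)] [∀ i, FiniteDimensional k (K i)] :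
    FormallyUnramified (Sigma.desc fun i => Spec.map (CommRingCat.ofHom (algebraMap k (K i)))) ∧
    LocallyOfFiniteType (Sigma.desc fun i => Spec.map (CommRingCat.ofHom (algebraMap k (K i)))) := by
  constructor
  · refine (IsZariskiLocalAtSource.iff_of_openCover (P := @FormallyUnramified)
      (sigmaOpenCover fun i => Spec (CommRingCat.of (K i)))).mpr fun i => ?_
    rw [sigmaOpenCover_f]
    erw [Sigma.ι_desc]
    refine (HasRingHomProperty.Spec_iff (P := @FormallyUnramified)
      (φ := CommRingCat.ofHom (algebraMap k (K i)))).mpr ?_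
    exact RingHom.formallyUnramified_algebraMap.mpr (Algebra.FormallyUnramified.of_isSeparable k (K i))
  · refine (IsZariskiLocalAtSource.iff_of_openCover (P := @LocallyOfFiniteType)
      (sigmaOpenCover fun i => Spec (CommRingCat.of (K i)))).mpr fun i => ?_
    rw [sigmaOpenCover_f]
    erw [Sigma.ι_desc]
    refine (HasRingHomProperty.Spec_iff (P := @LocallyOfFiniteType)
      (φ := CommRingCat.ofHom (algebraMap k (K i)))).mpr ?_
    exact RingHom.finiteType_algebraMap.mpr inferInstance

/-- A discrete reduced scheme locally of finite type over a perfect field is unramified. -/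
theorem formallyUnramified_of_discrete [PerfectField k] [LocallyOfFiniteType f] [DiscreteTopology X]
    [IsReduced X] : FormallyUnramified f := by
  refine (IsZariskiLocalAtSource.iff_of_iSup_eq_top (P := @FormallyUnramified)
    (fun x : X => (X.fromSpecResidueField x).opensRange)
    (top_le_iff.mp fun x _ => TopologicalSpace.Opens.mem_iSup.mpr
      ⟨x, closedPoint _, X.fromSpecResidueField_apply x _⟩)).mpr fun x => ?_
  rw [← MorphismProperty.cancel_left_of_respectsIso @FormallyUnramified
    (X.fromSpecResidueField x).isoOpensRange.hom, ← Category.assoc, Scheme.Hom.isoOpensRange_hom_ι]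
  obtain ⟨ψ, hψ⟩ := Spec.map_surjective (X.fromSpecResidueField x ≫ f)
  have h2 : LocallyOfFiniteType (Spec.map ψ) := hψ ▸ inferInstance
  rw [HasRingHomProperty.Spec_iff (P := @LocallyOfFiniteType)] at h2
  rw [← hψ, HasRingHomProperty.Spec_iff (P := @FormallyUnramified)]
  algebraize [ψ.hom]
  have : Module.Finite k (X.residueField x) := finite_of_finite_type_of_isJacobsonRing k _
  exact Algebra.FormallyUnramified.of_isSeparable k (X.residueField x)

end Groth.Agent.UnramFib
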